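import Mathlib.RingTheory.Localization.AtPrime.Basic
import Mathlib.RingTheory.Ideal.Operations
import Mathlib.RingTheory.Noetherian.Basic
import Mathlib.RingTheory.Spectrum.Prime.Defs
import Mathlib.RingTheory.IsTensorProduct
import Mathlib.RingTheory.Localization.BaseChange
import Mathlib.RingTheory.LocalProperties.Basic
import Mathlib.RingTheory.Finiteness.Basic

/-!
Gluing algebras given at finitely many maximal ideals which are isomorphic to the ring away from
them up to a power of the ideals.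
-/

set_option autoImplicit false
set_option linter.style.haveILetI false

universe u

open scoped TensorProduct

namespace Groth.L28.Glue

variable {A : Type u} [CommRing A] {r : ℕ} (m : Fin r → Ideal A) [∀ i, (m i).IsMaximal]
  (B : Fin r → Type u) [∀ i, CommRing (B i)] [∀ i, Algebra A (B i)]
  [∀ i, Algebra (Localization.AtPrime (m i)) (B i)]
  [∀ i, IsScalarTower A (Localization.AtPrime (m i)) (B i)]

/-- The primes different from all of the given maximal ideals. -/
abbrev Away : Type u := {p : PrimeSpectrum A // ∀ i, p.asIdeal ≠ m i}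

/-- The product in which the glued algebra lives. -/
abbrev Ambient : Type u := (∀ i, B i) × (∀ p : Away m, Localization.AtPrime p.1.asIdeal)

/-- The intersection of the maximal ideals. -/
abbrev J : Ideal A := ⨅ i, m i

/-- The glued algebra. -/
def glue : Subalgebra A (Ambient m B) where
  carrier := {c | ∃ N : ℕ, ∀ y ∈ J m ^ N, ∃ a : A, algebraMap A (Ambient m B) a = y • c}
  one_mem' := ⟨0, fun y _ => ⟨y, (Algebra.algebraMap_eq_smul_one y)⟩⟩
  mul_mem' := by
    rintro c d ⟨N, hN⟩ ⟨M, hM⟩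
    refine ⟨N + M, fun y hy => ?_⟩
    rw [pow_add] at hy
    refine Submodule.mul_induction_on hy (fun a ha b hb => ?_) (fun a b ha hb => ?_)
    · obtain ⟨a', ha'⟩ := hN a ha
      obtain ⟨b', hb'⟩ := hM b hb
      exact ⟨a' * b', by rw [map_mul, ha', hb', smul_mul_smul_comm]⟩
    · obtain ⟨a', ha'⟩ := ha
      obtain ⟨b', hb'⟩ := hb
      exact ⟨a' + b', by rw [map_add, ha', hb', add_smul]⟩
  zero_mem' := ⟨0, fun y _ => ⟨0, by simp⟩⟩
  add_mem' := by
    rintro c d ⟨N, hN⟩ ⟨M, hM⟩
    refine ⟨N + M, fun y hy => ?_⟩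
    obtain ⟨a, ha⟩ := hN y (Ideal.pow_le_pow_right (Nat.le_add_right N M) hy)
    obtain ⟨b, hb⟩ := hM y (Ideal.pow_le_pow_right (Nat.le_add_left M N) hy)
    exact ⟨a + b, by rw [map_add, ha, hb, smul_add]⟩
  algebraMap_mem' a := ⟨0, fun y _ => ⟨y * a, by rw [map_mul, Algebra.smul_def]⟩⟩

/-- Projection to the algebra at a maximal ideal. -/
def proj (i : Fin r) : ↥(glue m B) →ₐ[A] B i :=
  (Pi.evalAlgHom A B i).comp ((AlgHom.fst A _ _).comp (glue m B).val)

lemma isUnit_algebraMap (i : Fin r) {t : A} (ht : t ∉ m i) : IsUnit (algebraMap A (B i) t) := by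
  rw [IsScalarTower.algebraMap_apply A (Localization.AtPrime (m i)) (B i)]
  exact (IsLocalization.map_units (Localization.AtPrime (m i))
    (⟨t, ht⟩ : (m i).primeCompl)).map _

lemma eq_zero_of_smul {i : Fin r} {t : A} (ht : t ∉ m i) {b : B i} (h : t • b = 0) : b = 0 := by
  rw [Algebra.smul_def] at h
  exact (isUnit_algebraMap m B i ht).mul_right_eq_zero.1 h

omit [∀ i, (m i).IsMaximal] in
lemma eq_zero_of_smul_away {p : Away m} {t : A} (ht : t ∉ p.1.asIdeal)
    {x : Localization.AtPrime p.1.asIdeal} (h : t • x = 0) : x = 0 := by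
  rw [Algebra.smul_def] at h
  exact (IsLocalization.map_units (Localization.AtPrime p.1.asIdeal)
    (⟨t, ht⟩ : p.1.asIdeal.primeCompl)).mul_right_eq_zero.1 h

lemma not_le_away (i : Fin r) (p : Away m) (n : ℕ) : ¬ m i ^ n ≤ p.1.asIdeal := fun h =>
  p.2 i ((Ideal.IsMaximal.eq_of_le inferInstance p.1.2.ne_top (p.1.2.le_of_pow_le h)).symm)

lemma exists_mem_J_away (p : Away m) (n : ℕ) : ∃ z ∈ J m ^ n, z ∉ p.1.asIdeal := by
  by_contra h
  push Not at h
  have h1 : (∏ i, m i) ≤ p.1.asIdeal := (Ideal.prod_le_inf.trans (by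
    simp only [J, Finset.inf_univ_eq_iInf]; exact le_rfl)).trans (p.1.2.le_of_pow_le h)
  obtain ⟨i, -, hi⟩ := (Ideal.IsPrime.prod_le p.1.2).1 h1
  exact not_le_away m i p 1 (by rwa [pow_one])

omit [∀ i, Algebra (Localization.AtPrime (m i)) (B i)] in
lemma exists_cofactor (hinj : Function.Injective m) (j : Fin r) (N : ℕ) :
    ∃ t : A, t ∉ m j ∧ (∀ k, k ≠ j → t ∈ m k ^ N) ∧ ∀ e ∈ m j ^ N, e * t ∈ J m ^ N := by
  classical
  have : ∀ k, k ≠ j → ∃ t ∈ m k ^ N, t ∉ m j := fun k hk => by
    by_contra h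
    push Not at h
    exact hk (hinj (Ideal.IsMaximal.eq_of_le inferInstance (Ideal.IsMaximal.ne_top inferInstance)
      ((inferInstance : (m j).IsPrime).le_of_pow_le h)))
  choose t ht htj using this
  refine ⟨∏ k ∈ (Finset.univ.erase j).attach, t k.1 (Finset.ne_of_mem_erase k.2), fun h => ?_,
    fun k hk => ?_, fun e he => ?_⟩
  · obtain ⟨k, -, hk⟩ := (Ideal.IsPrime.prod_mem_iff (p := m j)).1 h
    exact htj _ _ hk
  · exact Ideal.mem_of_dvd _ (Finset.dvd_prod_of_mem _ (Finset.mem_attach _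
      ⟨k, Finset.mem_erase.2 ⟨hk, Finset.mem_univ k⟩⟩)) (ht k hk)
  · have h1 : e * ∏ k ∈ (Finset.univ.erase j).attach, t k.1 (Finset.ne_of_mem_erase k.2) ∈
        m j ^ N * ∏ k ∈ (Finset.univ.erase j).attach, m k.1 ^ N :=
      Ideal.mul_mem_mul he (Ideal.prod_mem_prod fun k _ => ht _ _)
    rw [Finset.prod_attach (Finset.univ.erase j) (fun k => m k ^ N),
      Finset.mul_prod_erase _ (fun k => m k ^ N) (Finset.mem_univ j), Finset.prod_pow] at h1
    refine Ideal.pow_right_mono (Ideal.prod_le_inf.trans ?_) N h1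
    rw [Finset.inf_univ_eq_iInf]

variable {m B} (n : ℕ)
  (hker : ∀ i, ∀ x : Localization.AtPrime (m i), algebraMap _ (B i) x = 0 →
    ∀ u ∈ m i ^ n, algebraMap A (Localization.AtPrime (m i)) u * x = 0)
  (hcoker : ∀ i, ∀ u ∈ m i ^ n, ∀ b : B i,
    ∃ x : Localization.AtPrime (m i), algebraMap _ (B i) x = u • b)

include hker in
lemma exists_kill {i : Fin r} {x : A} (hx : algebraMap A (B i) x = 0) {u : A} (hu : u ∈ m i ^ n) :
    ∃ s : A, s ∉ m i ∧ s * (u * x) = 0 := by
  rw [IsScalarTower.algebraMap_apply A (Localization.AtPrime (m i)) (B i)] at hx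
  have h := hker i _ hx u hu
  rw [← map_mul, IsLocalization.map_eq_zero_iff (m i).primeCompl] at h
  obtain ⟨⟨s, hs⟩, h⟩ := h
  exact ⟨s, hs, h⟩

include hker in
/-- An element of the ambient product which is annihilated by a multiple at one point. -/
lemma eq_zero_of_component (hinj : Function.Injective m) [IsNoetherianRing A] (i : Fin r)
    (c : Ambient m B) (N : ℕ) (hN : ∀ y ∈ J m ^ N, ∃ a : A, algebraMap A (Ambient m B) a = y • c)
    (hc : c.1 i = 0) : ∃ s : A, s ∉ m i ∧ s • c = 0 := by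
  classical
  obtain ⟨Z, hZ⟩ : (J m ^ N).FG := IsNoetherian.noetherian _
  obtain ⟨U, hU⟩ : (m i ^ n).FG := IsNoetherian.noetherian _
  have hz : ∀ z : Z, ∃ a : A, algebraMap A (Ambient m B) a = z.1 • c := fun z =>
    hN z.1 (hZ ▸ Submodule.subset_span z.2)
  choose a ha using hz
  have ha0 : ∀ z, algebraMap A (B i) (a z) = 0 := fun z => by
    have := congrArg (fun c => c.1 i) (ha z)
    simpa [hc] using this
  have hk : ∀ (z : Z) (u : U), ∃ s : A, s ∉ m i ∧ s * (u.1 * a z) = 0 := fun z u =>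
    exists_kill n hker (ha0 z) (hU ▸ Submodule.subset_span u.2)
  choose s hs hs0 using hk
  obtain ⟨e, he, hej, -⟩ := exists_cofactor m hinj i N
  set S := ∏ z : Z, ∏ u : U, s z u with hS
  have hSi : S ∉ m i := fun h => by
    obtain ⟨z, -, hz⟩ := (Ideal.IsPrime.prod_mem_iff (p := m i)).1 h
    obtain ⟨u, -, hu⟩ := (Ideal.IsPrime.prod_mem_iff (p := m i)).1 hz
    exact hs z u hu
  have hzero : ∀ z ∈ J m ^ N, ∀ u ∈ m i ^ n, (u * z) • (S • c) = 0 := by
    intro z hz u hu
    rw [← hZ] at hz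
    induction hz using Submodule.span_induction with
    | mem z hz =>
      rw [← hU] at hu
      induction hu using Submodule.span_induction with
      | mem u hu =>
        have e1 : (u * z) • (S • c) = algebraMap A (Ambient m B) (S * (u * a ⟨z, hz⟩)) := by
          rw [map_mul, map_mul, ha, smul_smul, Algebra.smul_def, Algebra.smul_def, map_mul, map_mul]
          ring
        obtain ⟨w, hw⟩ : s ⟨z, hz⟩ ⟨u, hu⟩ ∣ S :=
          (Finset.dvd_prod_of_mem (fun u' => s ⟨z, hz⟩ u') (Finset.mem_univ (⟨u, hu⟩ : U))).trans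
            (Finset.dvd_prod_of_mem (fun z' => ∏ u' : U, s z' u') (Finset.mem_univ (⟨z, hz⟩ : Z)))
        have h0 := hs0 (⟨z, hz⟩ : Z) (⟨u, hu⟩ : U)
        rw [e1, hw, mul_right_comm, h0, zero_mul, map_zero]
      | zero => simp
      | add u u' _ _ hu hu' => rw [add_mul, add_smul, hu, hu', add_zero]
      | smul t u _ hu => rw [smul_eq_mul, mul_assoc, mul_smul, hu, smul_zero]
    | zero => simp
    | add z z' _ _ hz hz' => rw [mul_add, add_smul, hz, hz', add_zero]
    | smul t z _ hz => rw [smul_eq_mul, mul_left_comm, mul_smul, hz, smul_zero]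
  refine ⟨e * S, fun h => ((inferInstance : (m i).IsPrime).mem_or_mem h).elim he hSi, ?_⟩
  refine Prod.ext (funext fun j => ?_) (funext fun p => ?_)
  · rcases eq_or_ne j i with rfl | hji
    · simp [hc]
    obtain ⟨t, ht, -, htJ⟩ := exists_cofactor m hinj j N
    obtain ⟨u, hu, huj⟩ : ∃ u ∈ m i ^ n, u ∉ m j := by
      by_contra h
      push Not at h
      exact hji (hinj (Ideal.IsMaximal.eq_of_le inferInstance (Ideal.IsMaximal.ne_top inferInstance)
        ((inferInstance : (m j).IsPrime).le_of_pow_le h))).symm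
    have := congrArg (fun c => c.1 j) (hzero (e * t) (htJ e (hej j hji)) u hu)
    simp only [Prod.smul_fst, Pi.smul_apply, Prod.fst_zero, Pi.zero_apply, smul_smul] at this ⊢
    refine eq_zero_of_smul m B (t := u * t) (fun h => ((inferInstance : (m j).IsPrime).mem_or_mem h).elim huj ht) ?_
    rw [smul_smul, ← this]
    congr 1
    ring
  · obtain ⟨z, hz, hzp⟩ := exists_mem_J_away m p N
    obtain ⟨u, hu, hup⟩ := Set.not_subset.1 (not_le_away m i p n)
    have := congrArg (fun c => c.2 p) (hzero z hz u hu)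
    simp only [Prod.smul_snd, Pi.smul_apply, Prod.snd_zero, Pi.zero_apply, smul_smul] at this ⊢
    refine eq_zero_of_smul_away m (t := u * z) (fun h => (p.1.2.mem_or_mem h).elim hup hzp) ?_
    rw [smul_smul, show u * z * (e * S) = e * (u * z * S) by ring, mul_smul, this, smul_zero]

include hker hcoker in
lemma exists_section (hinj : Function.Injective m) [IsNoetherianRing A] (i : Fin r) (b : B i) :
    ∃ s : A, s ∉ m i ∧ ∃ c : ↥(glue m B), proj m B i c = s • b ∧
      ∀ v ∈ m i ^ n, ∃ a : A, algebraMap A (Ambient m B) a = v • (c : Ambient m B) := by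
  classical
  obtain ⟨U, hU⟩ : (m i ^ n).FG := IsNoetherian.noetherian _
  have hu : ∀ u : U, ∃ (a s : A), s ∉ m i ∧ algebraMap A (B i) a = s • (u.1 • b) := fun u => by
    obtain ⟨x, hx⟩ := hcoker i u.1 (hU ▸ Submodule.subset_span u.2) b
    obtain ⟨a, t, rfl⟩ := IsLocalization.exists_mk'_eq (m i).primeCompl x
    refine ⟨a, t, t.2, ?_⟩
    rw [IsScalarTower.algebraMap_apply A (Localization.AtPrime (m i)) (B i),
      ← IsLocalization.mk'_spec (Localization.AtPrime (m i)) a t, map_mul, hx,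
      ← IsScalarTower.algebraMap_apply, mul_comm, ← Algebra.smul_def]
  choose a s hs hab using hu
  set S := ∏ u : U, s u with hS
  have hSi : S ∉ m i := fun h => by
    obtain ⟨u, -, hu⟩ := (Ideal.IsPrime.prod_mem_iff (p := m i)).1 h
    exact hs u hu
  choose q hq using fun u : U => Finset.dvd_prod_of_mem s (Finset.mem_univ u)
  let a' : U → A := fun u => q u * a u
  have hab' : ∀ u, algebraMap A (B i) (a' u) = (u.1 * S) • b := fun u => by
    rw [map_mul, hab, ← Algebra.smul_def, smul_smul, smul_smul]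
    congr 1
    rw [hS, hq u]; ring
  have hk : ∀ (u v w : U), ∃ s : A, s ∉ m i ∧ s * (w.1 * (u.1 * a' v - v.1 * a' u)) = 0 := fun u v w =>
    exists_kill n hker (by
      rw [map_sub, map_mul _ u.1 (a' v), map_mul _ v.1 (a' u), hab', hab', ← Algebra.smul_def, ← Algebra.smul_def, smul_smul,
        smul_smul, mul_left_comm, sub_self]) (hU ▸ Submodule.subset_span w.2)
  choose s' hs' hs'0 using hk
  set S' := ∏ u : U, ∏ v : U, ∏ w : U, s' u v w with hS'
  have hS'i : S' ∉ m i := fun h => by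
    obtain ⟨u, -, h⟩ := (Ideal.IsPrime.prod_mem_iff (p := m i)).1 h
    obtain ⟨v, -, h⟩ := (Ideal.IsPrime.prod_mem_iff (p := m i)).1 h
    obtain ⟨w, -, h⟩ := (Ideal.IsPrime.prod_mem_iff (p := m i)).1 h
    exact hs' u v w h
  have hS'0 : ∀ u v w : U, w.1 * (u.1 * (S' * a' v) - v.1 * (S' * a' u)) = 0 := fun u v w => by
    obtain ⟨t, ht⟩ : s' u v w ∣ S' :=
      (Finset.dvd_prod_of_mem (fun w => s' u v w) (Finset.mem_univ w)).trans
      ((Finset.dvd_prod_of_mem (fun v => ∏ w : U, s' u v w) (Finset.mem_univ v)).trans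
        (Finset.dvd_prod_of_mem (fun u => ∏ v : U, ∏ w : U, s' u v w) (Finset.mem_univ u)))
    rw [ht, show w.1 * (u.1 * (s' u v w * t * a' v) - v.1 * (s' u v w * t * a' u)) =
      t * (s' u v w * (w.1 * (u.1 * a' v - v.1 * a' u))) by ring, hs'0, mul_zero]
  have hgen : ∀ P : Ideal A, P.IsPrime → ¬ m i ^ n ≤ P → ∃ u : U, u.1 ∉ P := fun P _ hP => by
    by_contra h
    push Not at h
    exact hP (hU ▸ Submodule.span_le.2 fun u hu => h ⟨u, hu⟩)
  have hgenB : ∀ j, j ≠ i → ∃ u : U, u.1 ∉ m j := fun j hj => hgen _ inferInstance fun h =>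
    hj (hinj (Ideal.IsMaximal.eq_of_le inferInstance (Ideal.IsMaximal.ne_top inferInstance)
      ((inferInstance : (m j).IsPrime).le_of_pow_le h))).symm
  let c : Ambient m B :=
    (fun j => if h : j = i then (S' * S) • (h.symm ▸ b) else
      ↑((isUnit_algebraMap m B j (hgenB j h).choose_spec).unit⁻¹) *
        algebraMap A (B j) (S' * a' (hgenB j h).choose),
    fun p => IsLocalization.mk' _ (S' * a' (hgen p.1.asIdeal p.1.2 (not_le_away m i p n)).choose)
      (⟨_, (hgen p.1.asIdeal p.1.2 (not_le_away m i p n)).choose_spec⟩ : p.1.asIdeal.primeCompl))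
  have hvc : ∀ v : U, algebraMap A (Ambient m B) (S' * a' v) = v.1 • c := fun v => by
    refine Prod.ext (funext fun j => ?_) (funext fun p => ?_)
    · show algebraMap A (B j) (S' * a' v) = v.1 • dite _ _ _
      split_ifs with h
      · subst h
        rw [map_mul, hab', ← Algebra.smul_def, smul_smul, smul_smul]
        congr 1
        ring
      · set u := (hgenB j h).choose
        have hu := (hgenB j h).choose_spec
        rw [Algebra.smul_def, mul_left_comm (algebraMap A (B j) v.1), Units.eq_inv_mul_iff_mul_eq, IsUnit.unit_spec,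
          ← map_mul, ← map_mul, ← sub_eq_zero, ← map_sub]
        refine eq_zero_of_smul m B (t := u.1) hu ?_
        rw [Algebra.smul_def, ← map_mul, hS'0, map_zero]
    · show algebraMap A (Localization.AtPrime p.1.asIdeal) (S' * a' v) = v.1 • c.2 p
      simp only [c]
      set u := (hgen p.1.asIdeal p.1.2 (not_le_away m i p n)).choose
      have hu := (hgen p.1.asIdeal p.1.2 (not_le_away m i p n)).choose_spec
      rw [Algebra.smul_def, IsLocalization.mul_mk'_eq_mk'_of_mul, IsLocalization.eq_mk'_iff_mul_eq,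
        ← map_mul, ← sub_eq_zero, ← map_sub]
      refine eq_zero_of_smul_away m (t := u.1) hu ?_
      rw [Algebra.smul_def, ← map_mul, mul_comm (S' * a' v) u.1, hS'0, map_zero]
  have hmem : ∀ v ∈ m i ^ n, ∃ a : A, algebraMap A (Ambient m B) a = v • c := fun v hv => by
    rw [← hU] at hv
    induction hv using Submodule.span_induction with
    | mem v hv => exact ⟨_, hvc ⟨v, hv⟩⟩
    | zero => exact ⟨0, by simp⟩
    | add x y _ _ hx hy =>
      obtain ⟨a, ha⟩ := hx
      obtain ⟨b, hb⟩ := hy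
      exact ⟨a + b, by rw [map_add, ha, hb, add_smul]⟩
    | smul t x _ hx =>
      obtain ⟨a, ha⟩ := hx
      exact ⟨t * a, by rw [map_mul, ha, smul_eq_mul, mul_smul, Algebra.smul_def t]⟩
  refine ⟨S' * S, fun h => ((inferInstance : (m i).IsPrime).mem_or_mem h).elim hS'i hSi,
    ⟨c, n, fun y hy => hmem y (Ideal.pow_right_mono (iInf_le m i) n hy)⟩, ?_, hmem⟩
  show c.1 i = _
  simp [c]

include hker hcoker in
lemma isLocalizedModule (hinj : Function.Injective m) [IsNoetherianRing A] (i : Fin r) :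
    IsLocalizedModule (m i).primeCompl (proj m B i).toLinearMap where
  map_units s := by
    refine (Module.End.isUnit_iff _).2 ?_
    have h := isUnit_algebraMap m B i s.2
    have e : (fun b : B i => (s : A) • b) = fun b => algebraMap A (B i) s * b :=
      funext fun b => Algebra.smul_def _ _
    show Function.Bijective (fun b : B i => (s : A) • b)
    rw [e]
    exact h.unit.mulLeft_bijective
  surj b := by
    obtain ⟨s, hs, c, hc, -⟩ := exists_section n hker hcoker hinj i b
    exact ⟨⟨c, ⟨s, hs⟩⟩, hc.symm⟩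
  exists_of_eq {x₁ x₂} h := by
    obtain ⟨N, hN⟩ := (x₁ - x₂).2
    obtain ⟨s, hs, h0⟩ := eq_zero_of_component n hker hinj i _ N hN (by
      have : proj m B i (x₁ - x₂) = 0 := by rw [map_sub]; exact sub_eq_zero.2 h
      exact this)
    refine ⟨⟨s, hs⟩, sub_eq_zero.1 ?_⟩
    rw [Submonoid.smul_def, Submonoid.smul_def, ← smul_sub]
    exact Subtype.ext h0

lemma eq_top_of_forall (W : Ideal A) (N : ℕ) (hN : J m ^ N ≤ W)
    (h : ∀ i, ∃ s ∈ W, s ∉ m i) : W = ⊤ := by
  by_contra hne
  obtain ⟨P, hP, hWP⟩ := Ideal.exists_le_maximal W hne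
  have h1 : (∏ i, m i) ≤ P := (Ideal.prod_le_inf.trans (by
    simp only [J, Finset.inf_univ_eq_iInf]; exact le_rfl)).trans
      (hP.isPrime.le_of_pow_le (hN.trans hWP))
  obtain ⟨i, -, hi⟩ := (Ideal.IsPrime.prod_le hP.isPrime).1 h1
  obtain ⟨s, hs, hsi⟩ := h i
  exact hsi ((Ideal.IsMaximal.eq_of_le inferInstance hP.ne_top hi).symm ▸ hWP hs)

include hker hcoker in
/-- The uniform exponent. -/
lemma uniform (hinj : Function.Injective m) [IsNoetherianRing A] (c : ↥(glue m B)) {y : A}
    (hy : y ∈ J m ^ n) : ∃ a : A, algebraMap A (Ambient m B) a = y • (c : Ambient m B) := by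
  obtain ⟨N, hN⟩ := c.2
  let W : Ideal A :=
    ((1 : Submodule A (Ambient m B)).comap
      ((LinearMap.toSpanSingleton A (Ambient m B) (c : Ambient m B)).comp
        (LinearMap.mulRight A y)))
  have hW : ∀ w, w ∈ W ↔ ∃ a : A, algebraMap A (Ambient m B) a = (w * y) • (c : Ambient m B) :=
    fun w => Submodule.mem_one
  suffices hWt : W = ⊤ by
    obtain ⟨a, ha⟩ := (hW 1).1 (hWt ▸ Submodule.mem_top)
    exact ⟨a, by rw [ha, one_mul]⟩
  refine eq_top_of_forall (m := m) W N (fun z hz => ?_) fun i => ?_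
  · obtain ⟨a, ha⟩ := hN z hz
    exact (hW z).2 ⟨y * a, by rw [map_mul, ha, mul_comm z y, mul_smul, ← Algebra.smul_def]⟩
  · obtain ⟨x, hx⟩ := hcoker i y (Ideal.pow_right_mono (iInf_le m i) n hy) (proj m B i c)
    obtain ⟨a, s, rfl⟩ := IsLocalization.exists_mk'_eq (m i).primeCompl x
    let d : Ambient m B := (s.1 * y) • (c : Ambient m B) - algebraMap A (Ambient m B) a
    have hd : d.1 i = 0 := by
      show (s.1 * y) • proj m B i c - algebraMap A (B i) a = 0
      rw [sub_eq_zero, mul_smul, ← hx, IsScalarTower.algebraMap_apply A (Localization.AtPrime (m i)) (B i),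
        ← IsLocalization.mk'_spec (Localization.AtPrime (m i)) a s, map_mul, Algebra.smul_def,
        ← IsScalarTower.algebraMap_apply, mul_comm]
    obtain ⟨t, ht, htd⟩ := eq_zero_of_component n hker hinj i d N (fun z hz => by
      obtain ⟨a', ha'⟩ := hN z hz
      refine ⟨s.1 * y * a' - z * a, ?_⟩
      rw [map_sub, map_mul, map_mul _ z, ha', ← Algebra.smul_def, ← Algebra.smul_def,
        smul_comm (s.1 * y) z, ← smul_sub]) hd
    refine ⟨t * s.1, (hW _).2 ⟨t * a, ?_⟩,
      fun h => ((inferInstance : (m i).IsPrime).mem_or_mem h).elim ht s.2⟩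
    rw [smul_sub, sub_eq_zero] at htd
    rw [map_mul, ← Algebra.smul_def, ← htd, smul_smul, mul_assoc]

end Groth.L28.Glue
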